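import Cfsg.Agent.Lib.Sporadic.ThPres.SubZ.Tree0

set_option autoImplicit false
set_option maxRecDepth 20000

/-! Generated certificate: cosets of <a,b,c,d,e> in <abcdes> (tools/cosetbound/gen_pairs.py; generated; owner: helper9). -/

namespace CfsgLib.Sporadic.ThPres.SubZ
open CfsgLib.Recog.SporBound (Q)

noncomputable def factTree : Q (ℕ) := (.node ft15 ft31 ft47 ft63)
noncomputable def nodeTree : Q (ℕ) := ct0
noncomputable def stepTree : Q (List ℕ) := (.node (.node st5 st11 st17 st23) (.node st29 st35 st41 st47) (.node st53 st59 st65 st71) (.node st77 st83 st89 st95))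
noncomputable def finalTree : Q (List ℕ) := et0

/-- The certificate. -/
noncomputable def cert : CfsgLib.Sporadic.PairEnum.Cert where
  n := 1
  nd := 2585
  nf := 7670
  nl := 12
  kl := []
  facts := factTree
  cn := nodeTree
  steps := stepTree
  finals := finalTree
  rels := [[0, 0],
    [2, 2],
    [4, 4],
    [6, 6],
    [8, 8],
    [0, 2, 0, 2, 0, 2],
    [0, 8, 0, 8],
    [2, 4, 2, 4, 2, 4],
    [2, 6, 2, 6],
    [2, 8, 2, 8],
    [0, 7, 5, 7, 5, 7, 5, 7, 5],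
    [4, 8, 4, 8],
    [6, 8, 6, 8, 6, 8],
    [2, 4, 6, 8, 2, 4, 6, 8, 2, 4, 6, 8, 2, 4, 6, 8, 2, 4, 6, 8, 2, 4, 6, 8, 2, 4, 6, 8, 2, 4, 6, 8],
    [10, 10, 10, 10, 10, 10, 10],
    [11, 1, 10, 0],
    [11, 3, 10, 2],
    [11, 5, 10, 4],
    [10, 6, 10, 6],
    [9, 11, 8, 10, 11, 11, 11, 9, 10, 10, 10]]
  subs := [[0],
    [2],
    [4],
    [6],
    [8]]

/-- Traced words with their chains. -/
noncomputable def closers : List (List ℕ × ℕ) :=
  [([6, 8, 10, 4, 6, 8, 10, 4, 6, 8, 10, 4, 6, 8, 10, 4, 6, 8, 10, 4, 6, 8, 10, 4, 6, 8, 10, 4, 6, 8, 10, 4, 6, 8, 10, 4], 0xa1b0000100a2b00a3900a590003c00b2d00be600cf3002070109701308015ab0075101ae701df501b8801df301c5a008a600752015ae0130b003040020900cfa00be70006d0004000a6000a3d0000c0000400a2300a200000000a1d00a1c0002600000)]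

end CfsgLib.Sporadic.ThPres.SubZ
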